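import Groth.Agent.Lib.Pur25.Lift
import Mathlib.RingTheory.AdicCompletion.Basic

/-!
# Clopen subsets of `D(x)` and of its trace on `V(J)`, for `J`-adically complete rings
-/

set_option autoImplicit false

universe u

namespace Groth.Agent.PureGr25

open Finset PrimeSpectrum Groth.Agent.Pur25

variable {A B : Type u} [CommRing A] [CommRing B] [Algebra A B] {ι : Type} [Finite ι] {x : ι → A} {J : Ideal A}

local notation "am" => algebraMap A B

omit [Finite ι] in
theorem mem_pow_of_sat {n : ℕ} (h : TorsFree x (A ⧸ J ^ n)) {a : A} (ha : ∀ i, ∃ p : ℕ, x i ^ p * a ∈ J ^ n) :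
    a ∈ J ^ n := by
  refine Ideal.Quotient.eq_zero_iff_mem.1 (h _ fun i => ?_)
  obtain ⟨p, hp⟩ := ha i
  refine ⟨p, ?_⟩
  rw [← Ideal.Quotient.mk_eq_mk, ← Submodule.Quotient.mk_smul]
  exact Ideal.Quotient.eq_zero_iff_mem.2 hp

omit [Finite ι] in
theorem exists_value {n : ℕ} (h : Kill0 x (A ⧸ J ^ n) (1 : A)) {k : ℕ} {m : ι → A}
    (hm : ∀ i j, x j ^ k * m i - x i ^ k * m j ∈ J ^ n) :
    ∃ b : A, ∀ i, ∃ p : ℕ, x i ^ p * (m i - x i ^ k * b) ∈ J ^ n := by
  obtain ⟨b', p, hb⟩ := h k (fun i => Ideal.Quotient.mk _ (m i)) fun i j => by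
    beta_reduce
    rw [← Ideal.Quotient.mk_eq_mk, ← Ideal.Quotient.mk_eq_mk, ← Submodule.Quotient.mk_smul,
      ← Submodule.Quotient.mk_smul, Submodule.Quotient.eq]
    exact hm i j
  obtain ⟨b, rfl⟩ := Ideal.Quotient.mk_surjective b'
  refine ⟨b, fun i => ⟨p, ?_⟩⟩
  have := hb i
  rw [one_smul, ← Ideal.Quotient.mk_eq_mk, ← Ideal.Quotient.mk_eq_mk, ← Submodule.Quotient.mk_smul,
    ← Submodule.Quotient.mk_sub, ← Submodule.Quotient.mk_smul, Submodule.Quotient.mk_eq_zero] at this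
  exact this

omit [Finite ι] in
theorem apply_mem (φ : B →ₗ[A] A) (n : ℕ) {z : B} (hz : z ∈ (J.map am) ^ n) : φ z ∈ J ^ n := by
  rw [← Ideal.map_pow] at hz
  have h : z ∈ J ^ n • (⊤ : Submodule A B) := by
    rw [Ideal.smul_top_eq_map]; exact hz
  have h2 := Submodule.mem_map_of_mem (f := φ) h
  rw [Submodule.map_smul''] at h2
  exact Ideal.mul_le_left (I := J ^ n) (Submodule.smul_mono le_rfl (le_top) h2) |> fun h => h

omit [Finite ι] in
theorem apply_pi_mem {r : ℕ} (G : (Fin r → A) →ₗ[A] B) (n : ℕ) {v : Fin r → A} (hv : ∀ a, v a ∈ J ^ n) :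
    G v ∈ (J.map am) ^ n := by
  classical
  rw [show v = ∑ a, v a • Pi.single a 1 by ext b; simp [Finset.sum_apply, Pi.single_apply], map_sum,
    ← Ideal.map_pow]
  refine Ideal.sum_mem _ fun a _ => ?_
  rw [map_smul, Algebra.smul_def]
  exact Ideal.mul_mem_right _ _ (Ideal.mem_map_of_mem _ (hv a))

/-- Relatively clopen subsets of `D(x) ∩ V(J)` lift to `D(x)`. -/
theorem exists_lift_clopen [IsAdicComplete J A] {r e : ℕ} (G : (Fin r → A) →ₗ[A] B)
    (s : ι → B →ₗ[A] (Fin r → A)) (hs : ∀ i b, G (s i b) = x i ^ e • b)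
    (htf : ∀ n, TorsFree x (A ⧸ J ^ (n + 1))) (h0 : ∀ n, Kill0 x (A ⧸ J ^ (n + 1)) (1 : A))
    {O O' : Set (PrimeSpectrum B)} (hO : IsOpen O) (hO' : IsOpen O')
    (h : ∀ q : PrimeSpectrum B, J.map am ≤ q.asIdeal → (∃ i, am (x i) ∉ q.asIdeal) → (q ∈ O' ↔ q ∉ O)) :
    ∃ D D' : Set (PrimeSpectrum B), IsOpen D ∧ IsOpen D' ∧
      (∀ q : PrimeSpectrum B, (∃ i, am (x i) ∉ q.asIdeal) → (q ∈ D' ↔ q ∉ D)) ∧
      ∀ q : PrimeSpectrum B, J.map am ≤ q.asIdeal → (∃ i, am (x i) ∉ q.asIdeal) → (q ∈ D ↔ q ∈ O) := by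
  cases nonempty_fintype ι
  set I := J.map am with hI
  have hIq : ∀ (n : ℕ) (q : PrimeSpectrum B), I ^ (n + 1) ≤ q.asIdeal ↔ I ≤ q.asIdeal := fun n q =>
    ⟨fun hq => q.isPrime.le_of_pow_le hq, fun hq => (Ideal.pow_le_self (Nat.succ_ne_zero n)).trans hq⟩
  choose k m hm hmm hmO using fun n => exists_fam_idem x (I ^ (n + 1)) hO hO'
    fun q hq hy => h q ((hIq n q).1 hq) hy
  let φ : ι → Fin r → B →ₗ[A] A := fun l a => LinearMap.proj a ∘ₗ s l
  have hfam : ∀ n l a i j, x j ^ k n * φ l a (m n i) - x i ^ k n * φ l a (m n j) ∈ J ^ (n + 1) := by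
    intro n l a i j
    have := apply_mem (φ l a) (n + 1) (hm n i j)
    rw [← map_pow, ← map_pow, ← Algebra.smul_def, ← Algebra.smul_def, map_sub, map_smul, map_smul] at this
    exact this
  choose b p hb using fun n l a => exists_value (h0 n) (hfam n l a)
  -- the values are compatible
  have hcomp : ∀ n l a, b (n + 1) l a - b n l a ∈ J ^ (n + 1) := by
    intro n l a
    refine mem_pow_of_sat (htf n) fun i => ?_
    let Y := am (x i) ^ (k n + k (n + 1) + 1)
    let u := am (x i) ^ (k (n + 1) + 1) * m n i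
    let v := am (x i) ^ (k n + 1) * m (n + 1) i
    have hsub : I ^ (n + 1 + 1) ≤ I ^ (n + 1) := Ideal.pow_le_pow_right (by omega)
    have hY : ∀ q : PrimeSpectrum B, Y ∉ q.asIdeal → am (x i) ∉ q.asIdeal := fun q hY hx =>
      hY (q.asIdeal.pow_mem_of_mem hx _ (Nat.succ_pos _))
    obtain ⟨P, hP⟩ := sat_sub_of_agree (I ^ (n + 1)) Y u v
      ⟨0, by
        rw [pow_zero, one_mul, show u * u - Y * u = am (x i) ^ (2 * (k (n + 1) + 1)) *
          (m n i * m n i - am (x i) ^ k n * m n i) by simp only [u, Y]; ring]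
        exact Ideal.mul_mem_left _ _ (hmm n i)⟩
      ⟨0, by
        rw [pow_zero, one_mul, show v * v - Y * v = am (x i) ^ (2 * (k n + 1)) *
          (m (n + 1) i * m (n + 1) i - am (x i) ^ k (n + 1) * m (n + 1) i) by simp only [v, Y]; ring]
        exact Ideal.mul_mem_left _ _ (hsub (hmm (n + 1) i))⟩
      (fun q hq hYq => by
        have hx := hY q hYq
        have h1 := hmO n i q hq hx
        have h2 := hmO (n + 1) i q ((hIq (n + 1) q).2 ((hIq n q).1 hq)) hx
        have key : ∀ (d : ℕ) (w : B), (am (x i) ^ d * w ∈ q.asIdeal ↔ w ∈ q.asIdeal) := fun d w =>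
          ⟨fun h => (q.isPrime.mem_or_mem h).resolve_left fun h' => hx (q.isPrime.mem_of_pow_mem _ h'),
            fun h => q.asIdeal.mul_mem_left _ h⟩
        rw [key, key]
        exact not_iff_not.1 (h1.symm.trans h2))
    set N := (k n + k (n + 1) + 1) * P
    have hP' := apply_mem (φ l a) (n + 1) hP
    rw [show Y ^ P * (u - v) = (x i ^ (N + (k (n + 1) + 1))) • m n i - (x i ^ (N + (k n + 1))) • m (n + 1) i by
      simp only [Algebra.smul_def, map_pow, Y, u, v, N]; ring, map_sub, map_smul, map_smul] at hP'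
    simp only [smul_eq_mul] at hP'
    refine ⟨p n l a i + p (n + 1) l a i + (N + (k n + k (n + 1) + 1)), ?_⟩
    have e1 := hb n l a i
    have e2 := Ideal.pow_le_pow_right (Nat.le_succ (n + 1)) (hb (n + 1) l a i)
    rw [show x i ^ (p n l a i + p (n + 1) l a i + (N + (k n + k (n + 1) + 1))) * (b (n + 1) l a - b n l a) =
      x i ^ (p (n + 1) l a i + N + (k (n + 1) + 1)) * (x i ^ p n l a i * (φ l a (m n i) - x i ^ k n * b n l a)) -
      x i ^ (p n l a i + N + (k n + 1)) *
        (x i ^ p (n + 1) l a i * (φ l a (m (n + 1) i) - x i ^ k (n + 1) * b (n + 1) l a)) -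
      x i ^ (p n l a i + p (n + 1) l a i) *
        (x i ^ (N + (k (n + 1) + 1)) * φ l a (m n i) - x i ^ (N + (k n + 1)) * φ l a (m (n + 1) i)) by ring]
    exact sub_mem (sub_mem (Ideal.mul_mem_left _ _ e1) (Ideal.mul_mem_left _ _ e2)) (Ideal.mul_mem_left _ _ hP')
  -- the limits
  have hlim : ∀ l a, ∃ L : A, ∀ n, L - b n l a ∈ J ^ (n + 1) := by
    intro l a
    have hmono : ∀ n d, b (n + d) l a - b n l a ∈ J ^ (n + 1) := by
      intro n d
      induction d with
      | zero => simp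
      | succ d ih =>
        rw [show b (n + (d + 1)) l a - b n l a = (b (n + d + 1) l a - b (n + d) l a) + (b (n + d) l a - b n l a) by
          rw [← add_assoc]; ring]
        exact add_mem (Ideal.pow_le_pow_right (by omega) (hcomp (n + d) l a)) ih
    obtain ⟨L, hL⟩ := IsPrecomplete.prec' (I := J) (M := A) (fun n => b n l a) (fun {n n'} hn => by
      rw [SModEq.sub_mem, smul_eq_mul, Ideal.mul_top]
      obtain ⟨d, rfl⟩ := Nat.exists_eq_add_of_le hn
      rw [← neg_sub]
      exact neg_mem (Ideal.pow_le_pow_right (Nat.le_succ n) (hmono n d)))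
    refine ⟨L, fun n => ?_⟩
    have h1 := hL (n + 1)
    rw [SModEq.sub_mem, smul_eq_mul, Ideal.mul_top] at h1
    rw [show L - b n l a = -(b (n + 1) l a - L) + (b (n + 1) l a - b n l a) by ring]
    exact add_mem (neg_mem h1) (hcomp n l a)
  choose L hL using hlim
  let β : ι → B := fun l => G (L l)
  have hβ : ∀ n l i, ∃ q : ℕ, am (x i) ^ q * (am (x i) ^ k n * β l - am (x l) ^ e * m n i) ∈ I ^ (n + 1) := by
    intro n l i
    let P := univ.sup fun a => p n l a i
    refine ⟨P, ?_⟩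
    rw [show am (x i) ^ P * (am (x i) ^ k n * β l - am (x l) ^ e * m n i) =
      G (x i ^ P • (x i ^ k n • L l - s l (m n i))) by
        rw [map_smul, map_sub, map_smul, hs]; simp only [Algebra.smul_def, map_pow, β]]
    refine apply_pi_mem G (n + 1) fun a => ?_
    show x i ^ P * (x i ^ k n * L l a - φ l a (m n i)) ∈ _
    obtain ⟨d, hd⟩ := Nat.exists_eq_add_of_le (le_sup (f := fun a => p n l a i) (mem_univ a) : p n l a i ≤ P)
    rw [show P = p n l a i + d from hd, show x i ^ (p n l a i + d) * (x i ^ k n * L l a - φ l a (m n i)) =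
      x i ^ (p n l a i + d + k n) * (L l a - b n l a) -
        x i ^ d * (x i ^ p n l a i * (φ l a (m n i) - x i ^ k n * b n l a)) by ring]
    exact sub_mem (Ideal.mul_mem_left _ _ (hL l a n)) (Ideal.mul_mem_left _ _ (hb n l a i))
  have hz : ∀ j l l', am (x j) ^ e * (β l * β l' - am (x l) ^ e * β l') = 0 := by
    intro j l l'
    have h0' : ∀ a, φ j a (β l * β l' - am (x l) ^ e * β l') = 0 := by
      intro a
      refine IsHausdorff.haus' (I := J) _ fun n => ?_
      rw [SModEq.sub_mem, sub_zero, smul_eq_mul, Ideal.mul_top]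
      refine Ideal.pow_le_pow_right (Nat.le_succ n) (mem_pow_of_sat (htf n) fun i => ?_)
      obtain ⟨q, hq⟩ := hβ n l i
      obtain ⟨q', hq'⟩ := hβ n l' i
      have := apply_mem (φ j a) (n + 1) (z := am (x i) ^ (q + q' + 2 * k n) * (β l * β l' - am (x l) ^ e * β l')) (by
        rw [show am (x i) ^ (q + q' + 2 * k n) * (β l * β l' - am (x l) ^ e * β l') =
          (am (x i) ^ q' * am (x i) ^ k n * β l') *
              (am (x i) ^ q * (am (x i) ^ k n * β l - am (x l) ^ e * m n i)) +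
            (am (x i) ^ q * am (x l) ^ e * (m n i - am (x i) ^ k n)) *
              (am (x i) ^ q' * (am (x i) ^ k n * β l' - am (x l') ^ e * m n i)) +
            (am (x i) ^ (q + q') * am (x l) ^ e * am (x l') ^ e) * (m n i * m n i - am (x i) ^ k n * m n i) by ring]
        exact add_mem (add_mem (Ideal.mul_mem_left _ _ hq) (Ideal.mul_mem_left _ _ hq'))
          (Ideal.mul_mem_left _ _ (hmm n i)))
      rw [← map_pow, ← Algebra.smul_def, map_smul] at this
      exact ⟨_, this⟩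
    have := hs j (β l * β l' - am (x l) ^ e * β l')
    rw [show s j (β l * β l' - am (x l) ^ e * β l') = 0 from funext h0', map_zero, Algebra.smul_def, map_pow] at this
    exact this.symm
  have hcases : ∀ (q : PrimeSpectrum B) i, am (x i) ∉ q.asIdeal →
      β i ∈ q.asIdeal ∨ β i - am (x i) ^ e ∈ q.asIdeal := fun q i hi => by
    have h2 : am (x i) ^ e * (β i * (β i - am (x i) ^ e)) ∈ q.asIdeal := by
      rw [show β i * (β i - am (x i) ^ e) = β i * β i - am (x i) ^ e * β i by ring, hz]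
      exact q.asIdeal.zero_mem
    exact q.isPrime.mem_or_mem ((q.isPrime.mem_or_mem h2).resolve_left fun h => hi (q.isPrime.mem_of_pow_mem _ h))
  have hswitch : ∀ (q : PrimeSpectrum B) i j, am (x i) ∉ q.asIdeal → am (x j) ∉ q.asIdeal →
      β i ∈ q.asIdeal → β j ∈ q.asIdeal := fun q i j hi hj hq => by
    have h2 : am (x i) ^ e * (am (x i) ^ e * β j) ∈ q.asIdeal := by
      rw [show am (x i) ^ e * (am (x i) ^ e * β j) =
        am (x i) ^ e * β j * β i - am (x i) ^ e * (β i * β j - am (x i) ^ e * β j) by ring, hz, sub_zero]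
      exact q.asIdeal.mul_mem_left _ hq
    exact (q.isPrime.mem_or_mem ((q.isPrime.mem_or_mem h2).resolve_left
      fun h => hi (q.isPrime.mem_of_pow_mem _ h))).resolve_left fun h => hi (q.isPrime.mem_of_pow_mem _ h)
  refine ⟨⋃ i, (basicOpen (am (x i) * β i) : Set (PrimeSpectrum B)),
    ⋃ i, (basicOpen (am (x i) * (β i - am (x i) ^ e)) : Set (PrimeSpectrum B)),
    isOpen_iUnion fun i => (basicOpen _).2, isOpen_iUnion fun i => (basicOpen _).2, ?_, ?_⟩
  · rintro q ⟨i, hi⟩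
    simp only [Set.mem_iUnion, SetLike.mem_coe, mem_basicOpen, not_exists, not_not]
    constructor
    · rintro ⟨j, hj⟩ l
      by_cases hl : am (x l) ∈ q.asIdeal
      · exact q.asIdeal.mul_mem_right _ hl
      have hj1 : am (x j) ∉ q.asIdeal := fun h2 => hj (q.asIdeal.mul_mem_right _ h2)
      exact q.asIdeal.mul_mem_left _ (hswitch q j l hj1 hl
        ((hcases q j hj1).resolve_right fun h4 => hj (q.asIdeal.mul_mem_left _ h4)))
    · intro hl
      refine ⟨i, fun h2 => hi ?_⟩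
      have h3 := (q.isPrime.mem_or_mem (hl i)).resolve_left hi
      have h4 := (q.isPrime.mem_or_mem h2).resolve_left hi
      exact q.isPrime.mem_of_pow_mem _ (show am (x i) ^ e ∈ q.asIdeal by simpa using q.asIdeal.sub_mem h3 h4)
  · rintro q hqI ⟨i, hi⟩
    have hiff : ∀ j, am (x j) ∉ q.asIdeal → (β j ∈ q.asIdeal ↔ q ∉ O) := fun j hj => by
      rw [hmO 0 j q ((hIq 0 q).2 hqI) hj, not_not]
      obtain ⟨d, hd⟩ := hβ 0 j j
      have h3 : am (x j) ^ k 0 * β j - am (x j) ^ e * m 0 j ∈ q.asIdeal :=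
        (q.isPrime.mem_or_mem ((hIq 0 q).2 hqI hd)).resolve_left fun h => hj (q.isPrime.mem_of_pow_mem _ h)
      exact ⟨fun h2 => (q.isPrime.mem_or_mem ((Submodule.sub_mem_iff_right _ (q.asIdeal.mul_mem_left _ h2)).1 h3)).resolve_left
          fun h => hj (q.isPrime.mem_of_pow_mem _ h),
        fun h2 => (q.isPrime.mem_or_mem ((Submodule.sub_mem_iff_left _ (q.asIdeal.mul_mem_left _ h2)).1 h3)).resolve_left
          fun h => hj (q.isPrime.mem_of_pow_mem _ h)⟩
    simp only [Set.mem_iUnion, SetLike.mem_coe, mem_basicOpen]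
    constructor
    · rintro ⟨j, hj⟩
      have hj1 : am (x j) ∉ q.asIdeal := fun h2 => hj (q.asIdeal.mul_mem_right _ h2)
      by_contra hqO
      exact hj (q.asIdeal.mul_mem_left _ ((hiff j hj1).2 hqO))
    · exact fun hqO => ⟨i, fun h2 => (hiff i hi).1 ((q.isPrime.mem_or_mem h2).resolve_left hi) hqO⟩

/-- A clopen subset of `D(x)` missing `V(J)` is empty. -/
theorem clopen_eq_empty [IsHausdorff J A] {r e : ℕ} (G : (Fin r → A) →ₗ[A] B)
    (s : ι → B →ₗ[A] (Fin r → A)) (hs : ∀ i b, G (s i b) = x i ^ e • b)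
    (htf : ∀ n, TorsFree x (A ⧸ J ^ (n + 1))) (h0 : Kill0 x A (1 : A))
    {O O' : Set (PrimeSpectrum B)} (hO : IsOpen O) (hO' : IsOpen O')
    (h : ∀ q : PrimeSpectrum B, (∃ i, am (x i) ∉ q.asIdeal) → (q ∈ O' ↔ q ∉ O))
    (hne : ∀ q : PrimeSpectrum B, J.map am ≤ q.asIdeal → (∃ i, am (x i) ∉ q.asIdeal) → q ∉ O) :
    ∀ q : PrimeSpectrum B, (∃ i, am (x i) ∉ q.asIdeal) → q ∉ O := by
  cases nonempty_fintype ι
  obtain ⟨k, m, hm, hmm, hmO⟩ := exists_fam_idem x (⊥ : Ideal B) hO hO' fun q _ hy => h q hy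
  intro q ⟨i, hi⟩ hqO
  refine (hmO i q bot_le hi).1 hqO ?_
  have hdiv : ∀ n j, ∃ P : ℕ, am (x j) ^ P * m j ∈ (J.map am) ^ (n + 1) := by
    intro n j
    obtain ⟨P, hP⟩ := sat_sub_of_agree ((J.map am) ^ (n + 1)) (am (x j) ^ (k + 1)) (am (x j) * m j) 0
      ⟨0, by
        rw [pow_zero, one_mul, show am (x j) * m j * (am (x j) * m j) - am (x j) ^ (k + 1) * (am (x j) * m j) =
          am (x j) ^ 2 * (m j * m j - am (x j) ^ k * m j) by ring, (Submodule.mem_bot _).1 (hmm j), mul_zero]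
        exact zero_mem _⟩
      ⟨0, by simp⟩ (fun q hq hy => by
        refine iff_of_true (q.asIdeal.mul_mem_left _ ?_) q.asIdeal.zero_mem
        have hy' : am (x j) ∉ q.asIdeal := fun h1 => hy (q.asIdeal.pow_mem_of_mem h1 _ (Nat.succ_pos k))
        by_contra hei
        exact hne q (q.isPrime.le_of_pow_le hq) ⟨j, hy'⟩ ((hmO j q bot_le hy').2 hei))
    refine ⟨(k + 1) * P + 1, ?_⟩
    rw [show am (x j) ^ ((k + 1) * P + 1) = (am (x j) ^ (k + 1)) ^ P * am (x j) by rw [pow_succ, pow_mul], mul_assoc]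
    simpa using hP
  have hval : ∀ l a, ∃ P : ℕ, x i ^ P * s l (m i) a = 0 := by
    intro l a
    let φ : B →ₗ[A] A := LinearMap.proj a ∘ₗ s l
    obtain ⟨b, P, hb⟩ := h0 k (fun j => φ (m j)) fun j j' => by
      have h1 := sub_eq_zero.1 ((Submodule.mem_bot _).1 (hm j j'))
      rw [← map_pow, ← map_pow, ← Algebra.smul_def, ← Algebra.smul_def] at h1
      rw [← map_smul, ← map_smul, h1]
    simp only [smul_eq_mul, one_mul] at hb
    have hb0 : b = 0 := IsHausdorff.haus' (I := J) _ fun n => by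
      rw [SModEq.sub_mem, sub_zero, smul_eq_mul, Ideal.mul_top]
      refine Ideal.pow_le_pow_right (Nat.le_succ n) (mem_pow_of_sat (htf n) fun j => ?_)
      obtain ⟨P', hP'⟩ := hdiv n j
      rw [← map_pow, ← Algebra.smul_def] at hP'
      have := apply_mem φ (n + 1) hP'
      rw [map_smul, smul_eq_mul] at this
      refine ⟨P + P' + k, ?_⟩
      rw [show x j ^ (P + P' + k) * b = x j ^ P * (x j ^ P' * φ (m j)) -
        x j ^ P' * (x j ^ P * (φ (m j) - x j ^ k * b)) by ring, hb, mul_zero, sub_zero]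
      exact Ideal.mul_mem_left _ _ this
    exact ⟨P, by simpa [hb0, φ] using hb i⟩
  choose P hP using hval i
  have h0' : x i ^ univ.sup P • s i (m i) = 0 := funext fun a => by
    obtain ⟨d, hd⟩ := Nat.exists_eq_add_of_le (le_sup (f := P) (mem_univ a) : P a ≤ univ.sup P)
    rw [Pi.smul_apply, Pi.zero_apply, smul_eq_mul, hd, pow_add, mul_right_comm, hP, zero_mul]
  have h2 := congrArg G h0'
  rw [map_smul, map_zero, hs, smul_smul, Algebra.smul_def, ← pow_add, map_pow] at h2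
  have h3 : am (x i) ^ (univ.sup P + e) * m i ∈ q.asIdeal := h2 ▸ q.asIdeal.zero_mem
  exact (q.isPrime.mem_or_mem h3).resolve_left fun h => hi (q.isPrime.mem_of_pow_mem _ h)

end Groth.Agent.PureGr25
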