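import Groth.Agent.Lib.PureGr25.Clopen
import Groth.Agent.Lib.PureLift25.Iso
import Groth.Agent.Lib.Pur25.Full
import Groth.Agent.Lib.ParaGr27.Geom
import Groth.Agent.Lib.RelPure25.Descend
import Groth.Agent.Lib.RelPure25.Stalk
import Groth.Agent.Lib.DepthAlong11.Flat
import Groth.Agent.Lib.Compl.Noetherian
import Groth.Agent.S0239

/-!
# Purity lifts along ideals with thickenings of depth three
-/

set_option autoImplicit false
set_option linter.style.haveILetI false

universe u

open CategoryTheory CategoryTheory.Limits AlgebraicGeometry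

noncomputable section

namespace Groth.Agent.PureGr25

open Groth.Agent.Pur25

variable {A : Type u} [CommRing A] [IsNoetherianRing A] {ι : Type} [Finite ι] {x : ι → A}
  {U : (Spec (CommRingCat.of A)).Opens} {J : Ideal A}

omit [IsNoetherianRing A] [Finite ι] in
theorem mem_range_trace (u : (U : Scheme.{u})) :
    u ∈ Set.range (pullback.fst U.ι (Spec.map (CommRingCat.ofHom (Ideal.Quotient.mk J)))) ↔
      J ≤ (U.ι u : PrimeSpectrum A).asIdeal := by
  rw [Scheme.Pullback.range_fst, Set.mem_preimage]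
  show (U.ι u : PrimeSpectrum A) ∈ Set.range (PrimeSpectrum.comap (Ideal.Quotient.mk J)) ↔ _
  rw [range_comap_of_surjective _ _ Ideal.Quotient.mk_surjective, Ideal.mk_ker]
  exact Iff.rfl

/-- Restriction of finite étale covers from `D(x)` to `D(x) ∩ V(J)` is fully faithful. -/
theorem fullFaithful_trace (hU : ∀ q : PrimeSpectrum A, q ∈ U ↔ ∃ i, x i ∉ q.asIdeal) [IsAdicComplete J A]
    (htf : ∀ n, TorsFree x (A ⧸ J ^ (n + 1))) (h0 : ∀ n, Kill0 x (A ⧸ J ^ (n + 1)) (1 : A))
    (h0A : Kill0 x A (1 : A)) :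
    (FEt.restrict (pullback.fst U.ι (Spec.map (CommRingCat.ofHom (Ideal.Quotient.mk J))))).Full ∧
    (FEt.restrict (pullback.fst U.ι (Spec.map (CommRingCat.ofHom (Ideal.Quotient.mk J))))).Faithful := by
  set f₀ := pullback.fst U.ι (Spec.map (CommRingCat.ofHom (Ideal.Quotient.mk J))) with hf₀
  haveI : IsClosedImmersion (Spec.map (CommRingCat.ofHom (Ideal.Quotient.mk J))) :=
    IsClosedImmersion.spec_of_surjective _ Ideal.Quotient.mk_surjective
  have hT : ∀ S : Set (U : Scheme.{u}), IsClopen S → S.Nonempty → (S ∩ Set.range f₀).Nonempty := by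
    intro S hS hne
    by_contra hc
    have hO : IsOpen (U.ι '' S) := U.ι.isOpenEmbedding.isOpenMap _ hS.2
    have hO' : IsOpen (U.ι '' Sᶜ) := U.ι.isOpenEmbedding.isOpenMap _ hS.1.isOpen_compl
    obtain ⟨u, hu⟩ := hne
    refine clopen_eq_empty (x := x) (B := A) (J := J) (r := 1) (e := 0) (LinearMap.proj 0)
      (fun _ => LinearMap.pi fun _ => LinearMap.id) (fun i b => by simp) htf h0A
      (O := U.ι '' S) (O' := U.ι '' Sᶜ) hO hO' ?_ ?_ (U.ι u) ((hU _).1 u.2) ⟨u, hu, rfl⟩
    · intro q hq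
      obtain ⟨v, rfl⟩ : q ∈ Set.range U.ι := by rw [Scheme.Opens.range_ι]; exact (hU q).2 hq
      exact ⟨fun ⟨a, ha, e⟩ ⟨b, hb, e'⟩ => ha (U.ι.isOpenEmbedding.injective (e.trans e'.symm) ▸ hb),
        fun hn => ⟨v, fun hv => hn ⟨v, hv, rfl⟩, rfl⟩⟩
    · rintro q hqf hq ⟨v, hv, rfl⟩
      exact hc ⟨v, hv, (mem_range_trace v).2 fun a ha => hqf (Ideal.mem_map_of_mem _ ha)⟩
  refine ⟨FEtEq25.full_restrict _ hT ?_, FEtEq25.faithful_restrict _ hT⟩
  intro Z h hh C hC
  have : IsFinite h := hh.1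
  have : Etale h := hh.2
  obtain ⟨B, _, _, _, j, hj, hjh, hjr, hproj⟩ := exists_model hU h
  obtain ⟨r, e, G, s, hs⟩ := exists_split x B (hproj inferInstance)
  haveI : IsClosedImmersion (pullback.fst h f₀) := inferInstance
  have he := (pullback.fst h f₀).isClosedEmbedding.isInducing
  obtain ⟨O, hO, hOC⟩ := he.isOpen_iff.1 hC.2
  obtain ⟨O', hO', hOC'⟩ := he.isOpen_iff.1 hC.1.isOpen_compl
  have hqZ : ∀ q : PrimeSpectrum B, J.map (algebraMap A B) ≤ q.asIdeal → (∃ i, algebraMap A B (x i) ∉ q.asIdeal) →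
      ∃ p : ↥(pullback h f₀), j (pullback.fst h f₀ p) = q := by
    intro q hqf hq
    obtain ⟨z, rfl⟩ : q ∈ Set.range j := hjr ▸ hq
    suffices z ∈ Set.range (pullback.fst h f₀) by
      obtain ⟨p, rfl⟩ := this
      exact ⟨p, rfl⟩
    rw [Scheme.Pullback.range_fst, Set.mem_preimage, hf₀, mem_range_trace, ← Scheme.Hom.comp_apply,
      ← hjh, Scheme.Hom.comp_apply]
    exact Ideal.map_le_iff_le_comap.1 hqf
  obtain ⟨D, D', hD, hD', hDD, hDO⟩ := exists_lift_clopen (x := x) (J := J) G s hs htf h0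
    (O := j '' O) (O' := j '' O') (j.isOpenEmbedding.isOpenMap _ hO) (j.isOpenEmbedding.isOpenMap _ hO') (by
      intro q hqf hq
      obtain ⟨p, rfl⟩ := hqZ q hqf hq
      exact (j.isOpenEmbedding.injective.mem_set_image.trans (Set.ext_iff.1 hOC' p)).trans
        (not_congr (j.isOpenEmbedding.injective.mem_set_image.trans (Set.ext_iff.1 hOC p))).symm)
  have hjz : ∀ z : Z, ∃ i, algebraMap A B (x i) ∉ (j z : PrimeSpectrum B).asIdeal := fun z =>
    (hjr ▸ Set.mem_range_self z : (j z : PrimeSpectrum B) ∈ {q : PrimeSpectrum B | ∃ i, algebraMap A B (x i) ∉ q.asIdeal})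
  refine ⟨j ⁻¹' D, ⟨⟨?_⟩, hD.preimage j.continuous⟩, ?_⟩
  · rw [show (j ⁻¹' D)ᶜ = j ⁻¹' D' from Set.ext fun z => (hDD _ (hjz z)).symm]
    exact hD'.preimage j.continuous
  · ext p
    have hz : J ≤ (U.ι (h (pullback.fst h f₀ p)) : PrimeSpectrum A).asIdeal :=
      (mem_range_trace _).1 ⟨pullback.snd h f₀ p, by
        rw [← Scheme.Hom.comp_apply, ← Scheme.Hom.comp_apply, pullback.condition]⟩
    rw [← Scheme.Hom.comp_apply, ← hjh, Scheme.Hom.comp_apply] at hz
    exact (hDO _ (Ideal.map_le_iff_le_comap.2 hz) (hjz _)).trans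
      (j.isOpenEmbedding.injective.mem_set_image.trans (Set.ext_iff.1 hOC p))

variable [IsLocalRing A]

/-- Purity lifts to a complete ring with thickenings of depth two. -/
theorem purityHolds_of_complete (J : Ideal A) [IsAdicComplete J A] [IsLocalRing (A ⧸ J)]
    (hd : (2 : ℕ∞) ≤ LocCoh.depth A A) (hdn : ∀ n, (2 : ℕ∞) ≤ LocCoh.depth A (A ⧸ J ^ (n + 1)))
    (h : FEt.PurityHolds (A ⧸ J)) : FEt.PurityHolds A := by
  obtain ⟨m, x, hx⟩ := Pur25.exists_generators A
  let qA := Spec.map (CommRingCat.ofHom (Ideal.Quotient.mk J))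
  let U := FEt.puncturedSpec A
  let U' := FEt.puncturedSpec (A ⧸ J)
  have hJ : J ≠ ⊤ := Ideal.Quotient.nontrivial_iff.1 inferInstance
  have hk : ∀ n, TorsFree x (A ⧸ J ^ (n + 1)) ∧ Kill0 x (A ⧸ J ^ (n + 1)) (1 : A) := fun n => by
    haveI : Nontrivial (A ⧸ J ^ (n + 1)) := Ideal.Quotient.nontrivial_iff.2 fun h =>
      hJ (top_le_iff.1 (h.ge.trans (Ideal.pow_le_self (Nat.succ_ne_zero n))))
    obtain ⟨rs, h1, h2, h3⟩ := DepthLib.exists_isWeaklyRegular_of_le_idealDepth (R := A) (M := A ⧸ J ^ (n + 1))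
      (DepthLib.smul_top_ne_top (IsLocalRing.maximalIdeal.isMaximal A).ne_top) (n := 2) (hdn n)
    exact torsFree_and_kill0_of_depth_two hx _ rs h1 h2 h3.ge
  obtain ⟨hfull, hfaith⟩ := fullFaithful_trace (U := U) (J := J) (mem_puncturedSpec_iff hx) (fun n => (hk n).1)
    (fun n => (hk n).2) (kill_of_depth_two hx hd).2
  let a := pullback.fst U.ι qA
  let p := pullback.snd U.ι qA
  haveI : (FEt.restrict a).Full := hfull
  haveI : (FEt.restrict a).Faithful := hfaith
  haveI : (FEt.restrict qA).IsEquivalence := Groth.Agent.S0239.result A J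
  have hcl : qA (IsLocalRing.closedPoint (A ⧸ J)) = IsLocalRing.closedPoint A := by
    refine PrimeSpectrum.ext ?_
    exact IsLocalRing.eq_maximalIdeal (Ideal.comap_isMaximal_of_surjective
      (K := IsLocalRing.maximalIdeal (A ⧸ J)) (Ideal.Quotient.mk J) Ideal.Quotient.mk_surjective)
  have hr : Set.range p = Set.range U'.ι := by
    rw [Scheme.Pullback.range_snd, Scheme.Opens.range_ι, Scheme.Opens.range_ι]
    ext q
    show ¬ qA q = IsLocalRing.closedPoint A ↔ ¬ q = IsLocalRing.closedPoint _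
    refine not_congr ⟨fun h1 => ?_, fun h1 => h1 ▸ hcl⟩
    exact PrimeSpectrum.comap_injective_of_surjective _ Ideal.Quotient.mk_surjective (h1.trans hcl.symm)
  let ψ : pullback U.ι qA ≅ (U' : Scheme.{u}) := IsOpenImmersion.isoOfRangeEq p U'.ι hr
  haveI : (FEt.restrict U'.ι).EssSurj := h
  haveI := PureLift25.isEquivalence_restrict_of_isIso ψ.hom
  haveI : (FEt.restrict p).EssSurj := Functor.essSurj_of_iso
    ((restrictComp ψ.hom U'.ι).symm ≪≫
      MorphismProperty.Over.pullbackCongr (IsOpenImmersion.isoOfRangeEq_hom_fac _ _ _))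
  refine ⟨fun V => ?_⟩
  let Y := (FEt.restrict qA ⋙ FEt.restrict p).objPreimage ((FEt.restrict a).obj V)
  exact ⟨Y, ⟨(Functor.FullyFaithful.ofFullyFaithful (FEt.restrict a)).preimageIso
    (((restrictSquare qA p U.ι a pullback.condition).app Y).symm ≪≫
      (FEt.restrict qA ⋙ FEt.restrict p).objObjPreimageIso _)⟩⟩

/-- Purity lifts along ideals with free graded pieces and quotient of depth three. -/
theorem purityHolds_of_grFree (J : Ideal A) [IsLocalRing (A ⧸ J)]
    (hd3 : (3 : ℕ∞) ≤ LocCoh.depth (A ⧸ J) (A ⧸ J)) (hgr : ParaGr27.GrFree J) (h : FEt.PurityHolds (A ⧸ J)) :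
    (3 : ℕ∞) ≤ LocCoh.depth A A ∧ FEt.PurityHolds A := by
  have hJ : J ≠ ⊤ := Ideal.Quotient.nontrivial_iff.1 inferInstance
  have hd : ∀ i < 3, ParaGr27.Van A (ParaGr27.Qn J 0) i := fun i hi => by
    have h1 : ∀ j < 3, ParaGr27.Van A (A ⧸ J) j := (ParaGr27.van_iff_natCast_le_depth 3).2 (by
      rw [FlatDepth.depth_eq_of_surjective (A := A) (B := A ⧸ J) (M := A ⧸ J) Ideal.Quotient.mk_surjective]
      exact hd3)
    exact @Equiv.subsingleton _ _ (LocCohLib.hcongr _ i (Submodule.quotEquivOfEq _ _ (pow_one J))).toEquiv (h1 i hi)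
  have hA3 := ParaGr27.three_le_depth_self hgr hd hJ
  refine ⟨hA3, ?_⟩
  haveI : IsNoetherianRing (A ⧸ J) :=
    isNoetherianRing_of_surjective A (A ⧸ J) (Ideal.Quotient.mk J) Ideal.Quotient.mk_surjective
  let C := AdicCompletion J A
  haveI : IsNoetherianRing C := Compl.isNoetherianRing_adicCompletion J (IsNoetherian.noetherian J)
  haveI : Module.Flat A C := AdicCompletion.flat_of_isNoetherian _
  let φ := algebraMap A C
  let I := J.map φ
  haveI : IsAdicComplete I C := AdicCompletion.isAdicComplete_self J (IsNoetherian.noetherian J)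
  let ε : C →ₐ[A] A ⧸ J := AdicCompletion.evalOneₐ J
  have hker : RingHom.ker ε.toRingHom = I := AdicCompletion.ker_evalOneₐ_eq_map J (IsNoetherian.noetherian J)
  have hε : Function.Surjective ε.toRingHom := AdicCompletion.evalOneₐ_surjective J
  haveI hlε : IsLocalHom ε.toRingHom := ⟨fun c hc => by
    obtain ⟨d, hd⟩ := hε ↑hc.unit⁻¹
    have h1 : 1 - c * d ∈ I := by
      rw [← hker, RingHom.mem_ker, map_sub, map_one, map_mul, hd, IsUnit.mul_val_inv, sub_self]
    have h2 := Ideal.mem_jacobson_bot.1 (IsAdicComplete.le_jacobson_bot I h1) (-1)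
    rw [show (1 - c * d) * -1 + 1 = c * d by ring] at h2
    exact isUnit_of_mul_isUnit_left h2⟩
  haveI : IsLocalRing C := RingHom.domain_isLocalRing ε.toRingHom
  haveI : IsLocalHom φ := ⟨fun a ha => by
    have h1 := ha.map ε.toRingHom
    rw [show ε.toRingHom (φ a) = Ideal.Quotient.mk J a from ε.commutes a] at h1
    haveI := IsLocalHom.of_surjective (Ideal.Quotient.mk J) Ideal.Quotient.mk_surjective
    exact (isUnit_map_iff (Ideal.Quotient.mk J) a).1 h1⟩
  haveI : IsLocalHom (algebraMap A C) := ‹IsLocalHom φ›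
  have hmap : (IsLocalRing.maximalIdeal A).map φ = IsLocalRing.maximalIdeal C := by
    refine le_antisymm (IsLocalRing.map_maximalIdeal_le _) fun c hc => ?_
    obtain ⟨a, ha⟩ := Ideal.Quotient.mk_surjective (ε.toRingHom c)
    have h1 : c - φ a ∈ I := by
      rw [← hker, RingHom.mem_ker, map_sub, show ε.toRingHom (φ a) = Ideal.Quotient.mk J a from ε.commutes a, ha, sub_self]
    have hJm : J ≤ IsLocalRing.maximalIdeal A := IsLocalRing.le_maximalIdeal hJ
    have ham : a ∈ IsLocalRing.maximalIdeal A := fun hu => by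
      refine hc ((isUnit_map_iff ε.toRingHom c).1 ?_)
      rw [← ha]
      exact hu.map _
    rw [show c = (c - φ a) + φ a by ring]
    exact add_mem (Ideal.map_mono hJm h1) (Ideal.mem_map_of_mem φ ham)
  have hfib : LocCoh.depth (EGA4.FibRing A C) (EGA4.FibRing A C) = 0 := by
    haveI : IsLocalRing (EGA4.FibRing A C) :=
      haveI : Nontrivial (EGA4.FibRing A C) := Ideal.Quotient.nontrivial_iff.2 (by
        show (IsLocalRing.maximalIdeal A).map φ ≠ ⊤
        rw [hmap]; exact (IsLocalRing.maximalIdeal.isMaximal C).ne_top)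
      IsLocalRing.of_surjective' _ Ideal.Quotient.mk_surjective
    have h1 := DepthLib.depth_le_supportDim (R := EGA4.FibRing A C) (M := EGA4.FibRing A C)
    have hF : IsField (EGA4.FibRing A C) := Ideal.Quotient.maximal_ideal_iff_isField_quotient _ |>.1 (by
      show ((IsLocalRing.maximalIdeal A).map φ).IsMaximal
      rw [hmap]; infer_instance)
    rw [Module.supportDim_self_eq_ringKrullDim, ringKrullDim_eq_zero_of_isField hF, ← WithBot.coe_zero,
      WithBot.coe_le_coe] at h1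
    exact nonpos_iff_eq_zero.1 h1
  have h2A : (2 : ℕ∞) ≤ LocCoh.depth A A := (show (2 : ℕ∞) ≤ 3 by decide).trans hA3
  have hbc : ∀ (M : Type u) [AddCommGroup M] [Module A M] [Module.Finite A M],
      LocCoh.depth C (TensorProduct A C M) = LocCoh.depth A M := fun M _ _ _ => by
    rw [DepthAlong11.depth_baseChange, hfib, add_zero]
  have h2C : (2 : ℕ∞) ≤ LocCoh.depth C C := by
    rw [LocCoh.depth, ← DepthLib.idealDepth_congr (TensorProduct.AlgebraTensorModule.rid A C C), ← LocCoh.depth, hbc]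
    exact h2A
  have h2n : ∀ n, (2 : ℕ∞) ≤ LocCoh.depth C (C ⧸ I ^ (n + 1)) := fun n => by
    let q : (C ⧸ I ^ (n + 1)) ≃ₗ[C] TensorProduct A C (A ⧸ J ^ (n + 1)) :=
      (Submodule.quotEquivOfEq _ _ (Ideal.map_pow φ J (n + 1)).symm).trans
        (Algebra.TensorProduct.quotIdealMapEquivTensorQuot C (J ^ (n + 1))).toLinearEquiv
    rw [LocCoh.depth, DepthLib.idealDepth_congr q, ← LocCoh.depth, hbc]
    refine (show (2 : ℕ∞) ≤ ((3 : ℕ) : ℕ∞) by decide).trans ?_
    exact (ParaGr27.van_iff_natCast_le_depth 3).1 fun i hi => ParaGr27.van_Qn hgr hd n i hi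
  let e : (C ⧸ I) ≃+* (A ⧸ J) :=
    (Ideal.quotEquivOfEq hker.symm).trans (RingHom.quotientKerEquivOfSurjective hε)
  haveI : Nontrivial (C ⧸ I) := e.toEquiv.nontrivial
  haveI : IsLocalRing (C ⧸ I) := IsLocalRing.of_surjective' _ Ideal.Quotient.mk_surjective
  exact RelPure25.purityHolds_of_flat_extension φ (RingHom.flat_algebraMap_iff.2 inferInstance) h2A
    (hmap.symm.le.trans Ideal.le_radical)
    (purityHolds_of_complete I h2C h2n (RelPure25.purityHolds_of_ringEquiv e h))

end Groth.Agent.PureGr25
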